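import Mathlib
import Cfsg.Prelude.Def_GeometricClasses
import Cfsg.Agent.Lib.Helper27.ASC.Defs
import Cfsg.Agent.Lib.Helper19.ASG.Defs
import Cfsg.Agent.Lib.Helper18.ASP.Defs

/-!
# Project ASP, block C (sub-leader helper8) : shared definitions

* `KrGram f e P A B` : in the Kronecker basis `(e, P)` the Gram matrix of the form `f` is `A ⊗ₖ B`;
* `upperPart A` : the strictly upper triangular part of a square matrix;
* `ptv α v` : the pure tensor `α ⊗ v` as a coordinate vector indexed by `Fin k × Fin d`.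
-/

set_option autoImplicit false

namespace Cfsg.Agent.Lib.Helper18.ASP

open Cfsg Cfsg.Geo Cfsg.Agent.Lib.Helper27.ASC Cfsg.Agent.Lib.Helper19.ASG
open scoped MatrixGroups Matrix Kronecker

variable {n : ℕ} {F : Type*} [Field F]

/-- in the Kronecker basis `(e, P)` the Gram matrix of `f` is `A ⊗ₖ B` -/
def KrGram (f : (Fin n → F) → (Fin n → F) → F) {k d : ℕ} (e : Fin n ≃ Fin k × Fin d) (P : GL (Fin n) F)
    (A : Matrix (Fin k) (Fin k) F) (B : Matrix (Fin d) (Fin d) F) : Prop :=
  ∀ x y : Fin k × Fin d → F,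
    f ((P : Matrix (Fin n) (Fin n) F) *ᵥ (x ∘ e)) ((P : Matrix (Fin n) (Fin n) F) *ᵥ (y ∘ e)) =
      formOfGram id (A ⊗ₖ B) x y

/-- the strictly upper triangular part of a square matrix -/
def upperPart {k : ℕ} (A : Matrix (Fin k) (Fin k) F) : Matrix (Fin k) (Fin k) F :=
  fun i i' => if i < i' then A i i' else 0

/-- the pure tensor `α ⊗ v` as a coordinate vector -/
def ptv {k d : ℕ} (α : Fin k → F) (v : Fin d → F) : Fin k × Fin d → F := fun p => α p.1 * v p.2

theorem ptv_apply {k d : ℕ} (α : Fin k → F) (v : Fin d → F) (p : Fin k × Fin d) :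
    ptv α v p = α p.1 * v p.2 := rfl

theorem upperPart_apply {k : ℕ} (A : Matrix (Fin k) (Fin k) F) (i i' : Fin k) :
    upperPart A i i' = if i < i' then A i i' else 0 := rfl

end Cfsg.Agent.Lib.Helper18.ASP
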